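import Groth.Agent.Lib.RelVanish.Uniform
import Groth.Agent.Lib.OX.TensorAssoc
import Groth.Agent.Lib.OX.Tensor

/-! # Uniform vanishing for the twists by two ample modules -/

set_option autoImplicit false
set_option linter.style.haveILetI false
set_option backward.isDefEq.respectTransparency false
universe u

open CategoryTheory CategoryTheory.Limits AlgebraicGeometry TopologicalSpace Opposite Abelian

noncomputable section

namespace GrothLib.RelVanish28

open GrothLib
open GrothLib.Ample (Cocycle)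

variable {X : Scheme.{u}}

theorem mtwistMap_id (c : Cocycle X) (M : X.Modules) (n : ℕ) :
    c.mtwistMap (𝟙 M) n = 𝟙 (c.modTwist M n) :=
  Scheme.Modules.hom_ext _ _ fun V => by
    ext (b : c.msect M n V)
    rfl

/-- Twisting sends isomorphisms to isomorphisms. -/
def twistIso (c : Cocycle X) {M N : X.Modules} (e : M ≅ N) (n : ℕ) : c.modTwist M n ≅ c.modTwist N n where
  hom := c.mtwistMap e.hom n
  inv := c.mtwistMap e.inv n
  hom_inv_id := by rw [← SerreVanish.mtwistMap_comp, e.hom_inv_id, mtwistMap_id]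
  inv_hom_id := by rw [← SerreVanish.mtwistMap_comp, e.inv_hom_id, mtwistMap_id]

/-- Surjectivity on cohomology from kernel, image and cokernel sequences. -/
theorem surjective_hhMap (A : Type u) [CommRing A] [X.Over (Spec (CommRingCat.of A))]
    (c c' : Cocycle X) {M N : X.Modules} (μ : M ⟶ N) (a b i : ℕ)
    (s₂ : Subsingleton (Coh.HH X (c.modTwist (c'.modTwist (cokernel μ) b) a) i))
    (s₁ : Subsingleton (Coh.HH X (c.modTwist (c'.modTwist (kernel μ) b) a) (i + 1))) :
    Function.Surjective (Cohom.hhMap A (c.mtwistMap (c'.mtwistMap μ b) a) i) := by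
  intro y
  obtain ⟨z, hz⟩ := (Cohom.exact₂ (A := A) (SerreVanish.twistSeq_shortExact c a
    (SerreVanish.twistSeq_shortExact c' b (Euler.imageSeq_shortExact μ))) i y).1 (@Subsingleton.elim _ s₂ _ _)
  obtain ⟨w, hw⟩ := (Cohom.exact₃ (A := A) (SerreVanish.twistSeq_shortExact c a
    (SerreVanish.twistSeq_shortExact c' b (Euler.kernelSeq_shortExact μ))) i z).1 (@Subsingleton.elim _ s₁ _ _)
  refine ⟨w, ?_⟩
  rw [show c.mtwistMap (c'.mtwistMap μ b) a = c.mtwistMap (c'.mtwistMap (Abelian.factorThruImage μ) b) a ≫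
      c.mtwistMap (c'.mtwistMap (Abelian.image.ι μ) b) a by
    rw [← SerreVanish.mtwistMap_comp, ← SerreVanish.mtwistMap_comp, Abelian.image.fac], Euler.hhMap_comp]
  exact (congrArg _ hw).trans hz

variable (A : Type u) [CommRing A] [IsNoetherianRing A] [X.Over (Spec (CommRingCat.of A))]
  [IsProper (X ↘ Spec (CommRingCat.of A))]

include A in
/-- Twists by `c` kill the higher cohomology of all twists by `c'` at once. -/
theorem exists_uniform_pair (c c' : Cocycle X) (hc : c.IsAmp) (hc' : c'.IsAmp) {M : X.Modules}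
    (hM : Coh.IsCoh M) :
    ∃ N, ∀ a, N ≤ a → ∀ b i, 1 ≤ i → Subsingleton (Coh.HH X (c.modTwist (c'.modTwist M b) a) i) := by
  classical
  haveI := SerreVanish.isNoetherian_of_proper (X := X) A
  haveI := SerreVanish.isSeparated_of_proper (X := X) A
  suffices ∀ (T : Closeds X) (M : X.Modules), Coh.IsCoh M → CohB1.support M = T →
      ∃ N, ∀ a, N ≤ a → ∀ b i, 1 ≤ i → Subsingleton (Coh.HH X (c.modTwist (c'.modTwist M b) a) i) from
    this ⟨_, QCoh.isClosed_support_of_isCoh hM⟩ M hM rfl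
  intro T
  induction T using WellFounded.induction (r := ((· < ·) : Closeds X → Closeds X → Prop)) wellFounded_lt with
  | _ T ih =>
  intro M hM hMT
  haveI := hM.1
  rcases (T : Set X).eq_empty_or_nonempty with hT | ⟨x, hx⟩
  · refine ⟨0, fun a _ b i hi => ?_⟩
    have h : CohB1.support (c.modTwist (c'.modTwist M b) a) ⊆ (∅ : Set X) :=
      ((SerreVanish.support_modTwist_subset c _ a).trans (SerreVanish.support_modTwist_subset c' M b)).trans
        (hMT.trans hT).subset
    haveI := c'.isQuasicoherent_modTwist M b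
    haveI := c.isQuasicoherent_modTwist (c'.modTwist M b) a
    exact Euler.subsingleton_HH_of_finite_support _ (Set.finite_empty.subset h)
      (fun y hy => (h hy).elim) i hi
  obtain ⟨m, t, hxt, -⟩ := hc' x
  let μ := c'.mraiseHom M t 0 1
  have h0 := Euler.isCoh_modTwist c' hM 0
  have h1 := Euler.isCoh_modTwist c' hM (0 + (m + 1) * 1)
  have hbij : ∀ y ∈ c'.locus t, Function.Bijective (QCoh.stalkLin μ y) :=
    fun y hy => Euler.bijective_stalk_mraiseHom c' t M 0 1 hy
  have hsmall : ∀ (P : X.Modules), Coh.IsCoh P → CohB1.support P ⊆ (T : Set X) →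
      (∀ y ∈ c'.locus t, y ∉ CohB1.support P) →
      ∃ N, ∀ a, N ≤ a → ∀ b i, 1 ≤ i → Subsingleton (Coh.HH X (c.modTwist (c'.modTwist P b) a) i) :=
    fun P hP hPT hPa =>
    ih ⟨_, QCoh.isClosed_support_of_isCoh hP⟩ (lt_of_le_of_ne (fun y hy => hPT hy)
      fun e => hPa x hxt ((SetLike.ext'_iff.1 e).symm.le hx)) P hP rfl
  obtain ⟨NK, hNK⟩ := hsmall (kernel μ) (QCoh.isCoh_kernel μ h0 h1)
    (((QCoh.support_subset_of_mono (kernel.ι μ)).trans (SerreVanish.support_modTwist_subset c' M 0)).trans hMT.subset)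
    fun y hy => QCoh.notMem_support_kernel_of_injective μ (hbij y hy).1
  obtain ⟨NQ, hNQ⟩ := hsmall (cokernel μ) (QCoh.isCoh_cokernel μ h0 h1)
    (((QCoh.support_subset_of_epi (cokernel.π μ)).trans (SerreVanish.support_modTwist_subset c' M _)).trans hMT.subset)
    fun y hy => QCoh.notMem_support_cokernel_of_surjective μ (hbij y hy).2
  choose Nr hNr using fun r : ℕ => SerreVanish.evAcyclic c A hc (Euler.isCoh_modTwist c' hM r)
  let N₀ := max (max NK NQ) ((Finset.range (m + 1)).sup Nr)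
  refine ⟨N₀, fun a ha b i hi => ?_⟩
  induction b using Nat.strong_induction_on with
  | _ b hb =>
  rcases lt_or_ge b (m + 1) with hlt | hge
  · exact hNr b a (le_trans (le_trans (Finset.le_sup (Finset.mem_range.2 hlt)) (le_max_right _ _)) ha) i hi
  · have hlt : b - (m + 1) < b := by omega
    haveI := hb (b - (m + 1)) hlt
    haveI : Subsingleton (Coh.HH X (c.modTwist (c'.modTwist (c'.modTwist M 0) (b - (m + 1))) a) i) :=
      (Euler.hhEquiv (A := A) (twistIso c (asIso (SerreVanish.twistTwist c' M (b - (m + 1)) (q := b - (m + 1))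
        (p := 0) (by omega))) a) i).toEquiv.subsingleton
    have hs := surjective_hhMap A c c' μ a (b - (m + 1)) i
      (hNQ a (le_trans (le_trans (le_max_right _ _) (le_max_left _ _)) ha) _ i hi)
      (hNK a (le_trans (le_trans (le_max_left _ _) (le_max_left _ _)) ha) _ (i + 1) (by omega))
    haveI := hs.subsingleton
    exact (Euler.hhEquiv (A := A) (twistIso c (asIso (SerreVanish.twistTwist c' M (b - (m + 1)) (q := b)
        (p := 0 + (m + 1) * 1) (by omega))) a) i).toEquiv.symm.subsingleton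

/-- The two orders of twisting. -/
def tensorSwap (F P Q : X.Modules) :
    CohB1.tensorMod (CohB1.tensorMod F P) Q ≅ CohB1.tensorMod (CohB1.tensorMod F Q) P :=
  OX.tensorAssoc F P Q ≪≫ ((DCoh.tensorBi (X := X)).obj F).mapIso ((OX.tensorBraiding.app P).app Q).symm ≪≫
    (OX.tensorAssoc F Q P).symm

include A in
/-- Vanishing for tensor twists by two ample modules. -/
theorem exists_pair_tensor {L M : X.Modules} (hL : CohB1.IsAmple L) (hM : CohB1.IsAmple M) {F : X.Modules}
    (hF : Coh.IsCoh F) :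
    ∃ N, ∀ a, N ≤ a → ∀ b i, 1 ≤ i →
      Subsingleton (Coh.HH X (CohB1.tensorMod (CohB1.tensorMod F (CohB1.tensorPow M b)) (CohB1.tensorPow L a)) i) := by
  obtain ⟨c, ⟨e⟩⟩ := Ample.exists_cocycle hL.1
  obtain ⟨c', ⟨e'⟩⟩ := Ample.exists_cocycle hM.1
  obtain ⟨N, hN⟩ := exists_uniform_pair A c c' ((c.isAmple_iff e).1 hL).2 ((c'.isAmple_iff e').1 hM).2 hF
  refine ⟨N, fun a ha b i hi => ?_⟩
  obtain ⟨d⟩ := c.nonempty_tensorPow_iso e a
  obtain ⟨d'⟩ := c'.nonempty_tensorPow_iso e' b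
  obtain ⟨q'⟩ := c'.nonempty_tensor_modTwist F b
  obtain ⟨q⟩ := c.nonempty_tensor_modTwist (c'.modTwist F b) a
  let j : CohB1.tensorMod (CohB1.tensorMod F (CohB1.tensorPow M b)) (CohB1.tensorPow L a) ≅
      c.modTwist (c'.modTwist F b) a :=
    ((DCoh.tensorBi (X := X)).mapIso (((DCoh.tensorBi (X := X)).obj F).mapIso d' ≪≫ q')).app _ ≪≫
      ((DCoh.tensorBi (X := X)).obj (c'.modTwist F b)).mapIso d ≪≫ q
  haveI := hN a ha b i hi
  exact (Euler.hhEquiv (A := A) j i).toEquiv.subsingleton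

end GrothLib.RelVanish28

namespace GrothLib.RelVanish28

open GrothLib

variable {X S : Scheme.{u}} (f : X ⟶ S)

theorem exists_preimage [IsProper f] [IsLocallyNoetherian S] {L M : X.Modules}
    (hL : PicF.IsInvertible L) (hM : PicF.IsInvertible M) {V : S.Opens} (hV : IsAffineOpen V)
    (hla : CohB1.IsAmple (L.restrict (f ⁻¹ᵁ V).ι)) (hma : CohB1.IsAmple (M.restrict (f ⁻¹ᵁ V).ι))
    {F : X.Modules} (hF : Coh.IsCoh F) :
    ∃ N, ∀ a, N ≤ a → ∀ b p, 1 ≤ p → Subsingleton (Ext.{u} (Cohom.freeFun.obj (f ⁻¹ᵁ V))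
      (Coh.toAb (CohB1.tensorMod (CohB1.tensorMod F (CohB1.tensorPow M b)) (CohB1.tensorPow L a))) p) := by
  haveI : IsNoetherianRing Γ(S, V) := IsLocallyNoetherian.component_noetherian ⟨V, hV⟩
  letI : ((f ⁻¹ᵁ V : X.Opens) : Scheme.{u}).Over (Spec (CommRingCat.of Γ(S, V))) := ⟨BCCoh.affBase f hV⟩
  haveI : IsProper (((f ⁻¹ᵁ V : X.Opens) : Scheme.{u}) ↘ Spec (CommRingCat.of Γ(S, V))) :=
    RelVanish.isProper_affBase f hV
  obtain ⟨N, hN⟩ := exists_pair_tensor Γ(S, V) hla hma (Cohom.isCoh_restrict F hF (f ⁻¹ᵁ V).ι)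
  refine ⟨N, fun a ha b p hp => ?_⟩
  obtain ⟨φ⟩ := RelVanish.nonempty_restrict_tensorPow (f ⁻¹ᵁ V).ι (CohB1.tensorMod F (CohB1.tensorPow M b)) hL a
  obtain ⟨ψ⟩ := RelVanish.nonempty_restrict_tensorPow (f ⁻¹ᵁ V).ι F hM b
  haveI : Subsingleton (Coh.HHon X (CohB1.tensorMod (CohB1.tensorMod F (CohB1.tensorPow M b))
      (CohB1.tensorPow L a)) (f ⁻¹ᵁ V) p) :=
    @Equiv.subsingleton _ _ (Euler.hhEquiv (A := Γ(S, V)) (φ ≪≫ ((DCoh.tensorBi).mapIso ψ).app _) p).toEquiv
      (hN a ha b p hp)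
  obtain ⟨e⟩ := Cohom.nonempty_HHon_equiv
    (CohB1.tensorMod (CohB1.tensorMod F (CohB1.tensorPow M b)) (CohB1.tensorPow L a)) (f ⁻¹ᵁ V) p
  exact e.toEquiv.symm.subsingleton

/-- The relative statement, one of the two exponents large. -/
theorem exists_isZero_Rpush_pair [IsProper f] [IsNoetherian S] [HasInjectiveResolutions X.Modules]
    {L M : X.Modules} (hL : PicF.IsInvertible L) (hM : PicF.IsInvertible M)
    (hla : RelAmple.IsRelAmple f L) (hma : RelAmple.IsRelAmple f M) {F : X.Modules} (hF : Coh.IsCoh F) :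
    ∃ N, ∀ a, N ≤ a → ∀ b p, 0 < p → IsZero ((Coh.Rpush f p).obj
      (CohB1.tensorMod (CohB1.tensorMod F (CohB1.tensorPow M b)) (CohB1.tensorPow L a))) := by
  haveI := LocallyOfFiniteType.isLocallyNoetherian f
  obtain ⟨κ, hκ, W, hW, -, hcov⟩ := QCoh.exists_finite_affine_cover (U := (⊤ : S.Opens))
    (by simpa using isCompact_univ)
  haveI := Fintype.ofFinite κ
  choose n hn using fun i => exists_preimage f hL hM (hW i) (hla.2 ⟨_, hW i⟩) (hma.2 ⟨_, hW i⟩) hF
  refine ⟨Finset.univ.sup n, fun a ha b p hp => ?_⟩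
  haveI : (CohB1.tensorMod (CohB1.tensorMod F (CohB1.tensorPow M b)) (CohB1.tensorPow L a)).IsQuasicoherent :=
    (CMReg.isCoh_tensorMod (CMReg.isCoh_tensorMod hF (Ample.isInvertible_tensorPow hM b))
      (Ample.isInvertible_tensorPow hL a)).1
  exact RelVanish.isZero_Rpush_of_cover f _ p W hW (fun x => Opens.mem_iSup.1 (hcov trivial))
    fun i => hn i a ((Finset.le_sup (Finset.mem_univ i)).trans ha) b p hp

end GrothLib.RelVanish28
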